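import Mathlib

/-!
Fibres of a left Kan extension at a point, as a coproduct of fibres.
-/

universe w v u₁ u₂ v' u'

set_option autoImplicit false
set_option maxHeartbeats 400000

open CategoryTheory CategoryTheory.Limits Opposite

namespace Groth.Agent.ExtZero9

variable {C : Type u₁} [Category.{v} C] {D : Type u₂} [Category.{v} D] (G : D ⥤ C)
  {J : GrothendieckTopology C} {K : GrothendieckTopology D}
  (p : GrothendieckTopology.Point.{w} J) {ι : Type w} (q : ι → GrothendieckTopology.Point.{w} K)
  (e : ∀ W : D, (Σ i, (q i).fiber.obj W) ≃ p.fiber.obj (G.obj W))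
  (he : ∀ ⦃W' W : D⦄ (g : W' ⟶ W) (i : ι) (z : (q i).fiber.obj W'),
    p.fiber.map (G.map g) (e W' ⟨i, z⟩) = e W ⟨i, (q i).fiber.map g z⟩)
  {A : Type u'} [Category.{v'} A] [HasColimitsOfSize.{w, w} A] [HasProducts.{w} A] [HasCoproducts.{w} A]
  (P : Dᵒᵖ ⥤ A) [G.op.HasLeftKanExtension P]

include he

/-- fibre of the left Kan extension -/
noncomputable def lanFibIso :
    p.presheafFiber.obj (G.op.leftKanExtension P) ≅ ∐ fun i => (q i).presheafFiber.obj P := by
  let S := fun i => (q i).presheafFiber.obj P
  let gι : ∀ (W : D), (Σ i, (q i).fiber.obj W) → (P.obj (op W) ⟶ ∐ S) := fun W s =>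
    (q s.1).toPresheafFiber W s.2 P ≫ Sigma.ι S s.1
  let θ : P ⟶ G.op ⋙ p.skyscraperPresheaf (∐ S) :=
    { app := fun W => Pi.lift fun y => gι W.unop ((e W.unop).symm y)
      naturality := fun {W W'} g => by
        show P.map g ≫ Pi.lift (fun y => gι W'.unop ((e W'.unop).symm y)) =
          Pi.lift (fun y => gι W.unop ((e W.unop).symm y)) ≫
            Pi.map' (fun y => p.fiber.map (G.map g.unop) y) (fun _ => 𝟙 (∐ S))
        refine Pi.hom_ext _ _ fun y => ?_
        obtain ⟨⟨i, z⟩, rfl⟩ := (e W'.unop).surjective y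
        simp only [Category.assoc, Pi.lift_π, Pi.map'_comp_π, Equiv.symm_apply_apply]
        rw [he, Category.comp_id, Pi.lift_π, Equiv.symm_apply_apply]
        simp only [gι]
        rw [← Category.assoc]
        exact congrArg (· ≫ Sigma.ι S i) ((q i).toPresheafFiber_w g.unop z P) }
  let hom := p.skyscraperPresheafHomEquiv.symm
    ((G.op.leftKanExtension P).descOfIsLeftKanExtension (G.op.leftKanExtensionUnit P) _ θ)
  let inv : (∐ S) ⟶ p.presheafFiber.obj (G.op.leftKanExtension P) := Sigma.desc fun i => (q i).presheafFiberDesc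
    (fun W z => (G.op.leftKanExtensionUnit P).app (op W) ≫ p.toPresheafFiber (G.obj W) (e W ⟨i, z⟩) _)
    (fun W' W g z => by
      refine (Category.assoc _ _ _).symm.trans ?_
      refine (congrArg (· ≫ _) ((G.op.leftKanExtensionUnit P).naturality g.op)).trans ?_
      rw [Category.assoc]
      refine congrArg (_ ≫ ·) ?_
      refine (p.toPresheafFiber_w (G.map g) (e W' ⟨i, z⟩) (G.op.leftKanExtension P)).trans ?_
      rw [he])
  have hh : ∀ (W : D) (y : p.fiber.obj (G.obj W)),
      (G.op.leftKanExtensionUnit P).app (op W) ≫ p.toPresheafFiber (G.obj W) y _ ≫ hom = gι W ((e W).symm y) := by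
    intro W y
    simp only [hom, GrothendieckTopology.Point.toPresheafFiber_skyscraperPresheafHomEquiv_symm]
    refine (Category.assoc _ _ _).symm.trans ?_
    refine (congrArg (· ≫ _) ((G.op.leftKanExtension P).descOfIsLeftKanExtension_fac_app
      (G.op.leftKanExtensionUnit P) _ θ (op W))).trans ?_
    exact Pi.lift_π _ _
  refine ⟨hom, inv, ?_, ?_⟩
  · refine (p.skyscraperPresheafHomEquiv (M := p.presheafFiber.obj (G.op.leftKanExtension P))).injective ?_
    refine (G.op.leftKanExtension P).hom_ext_of_isLeftKanExtension (G.op.leftKanExtensionUnit P) _ _ ?_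
    ext W
    dsimp
    refine Pi.hom_ext _ _ fun y => ?_
    erw [Category.assoc, Category.assoc, GrothendieckTopology.Point.skyscraperPresheafHomEquiv_app_π,
      GrothendieckTopology.Point.skyscraperPresheafHomEquiv_app_π, Category.comp_id]
    rw [← Category.assoc, ← Category.assoc, Category.assoc _ _ hom]
    refine (congrArg (· ≫ inv) (hh W.unop y)).trans ?_
    simp only [gι, inv, S, Category.assoc, Sigma.ι_desc,
      GrothendieckTopology.Point.toPresheafFiber_presheafFiberDesc, Sigma.eta, Equiv.apply_symm_apply]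
  · refine Sigma.hom_ext _ _ fun i => ?_
    refine GrothendieckTopology.Point.presheafFiber_hom_ext _ fun W z => ?_
    simp only [inv, Sigma.ι_desc_assoc, GrothendieckTopology.Point.toPresheafFiber_presheafFiberDesc_assoc,
      Category.comp_id, Category.assoc]
    rw [hh, Equiv.symm_apply_apply]

end Groth.Agent.ExtZero9
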