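import Mathlib
import Groth.Agent.OverExtend.KInjective

/-!
Extension by zero of presheaves of modules along `Over U ⥤ C`.
-/

universe u

set_option autoImplicit false

open CategoryTheory CategoryTheory.Limits Opposite

namespace Groth.Agent.ExtZero9

open OverExtend.KInjective

variable {C : Type u} [SmallCategory C] {U : C} {R : Cᵒᵖ ⥤ RingCat.{u}}

variable (U R) in
/-- the restricted rings -/
abbrev RU : (Over U)ᵒᵖ ⥤ RingCat.{u} := (Over.forget U).op ⋙ R

variable (M : PresheafOfModules.{u} (RU U R))

/-- scalar multiplication on a summand -/
noncomputable def sm (V : Cᵒᵖ) (r : R.obj V) (f : V.unop ⟶ U) :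
    summand U M.presheaf V f ⟶ summand U M.presheaf V f :=
  AddCommGrpCat.ofHom
    { toFun := fun (m : M.obj (op (Over.mk f))) => (show (RU U R).obj (op (Over.mk f)) from r) • m
      map_zero' := smul_zero _
      map_add' := smul_add _ }

/-- scalar multiplication on the extension -/
noncomputable def act (V : Cᵒᵖ) (r : R.obj V) :
    (∐ summand U M.presheaf V) ⟶ ∐ summand U M.presheaf V :=
  Limits.Sigma.map fun f => sm M V r f

theorem act_ι (V : Cᵒᵖ) (r : R.obj V) (f : V.unop ⟶ U) (m : summand U M.presheaf V f) :
    act M V r ((Sigma.ι (summand U M.presheaf V) f) m) =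
      (Sigma.ι (summand U M.presheaf V) f) (sm M V r f m) :=
  ConcreteCategory.congr_hom (Sigma.ι_map (fun g => sm M V r g) f) m

theorem sigma_hom_ext {V : Cᵒᵖ} {A : AddCommGrpCat.{u}} {a b : (∐ summand U M.presheaf V) ⟶ A}
    (h : ∀ f m, a (Sigma.ι (summand U M.presheaf V) f m) = b (Sigma.ι (summand U M.presheaf V) f m)) : a = b :=
  Sigma.hom_ext _ _ fun f => ConcreteCategory.hom_ext _ _ fun m => h f m

/-- the extension's value as an endomorphism ring representation -/
noncomputable def actHom (V : Cᵒᵖ) : R.obj V →+* CategoryTheory.End (∐ summand U M.presheaf V) where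
  toFun := act M V
  map_one' := sigma_hom_ext M fun f m => by
    rw [act_ι]
    exact congrArg _ (one_smul _ _)
  map_mul' r s := sigma_hom_ext M fun f m => by
    show _ = act M V r (act M V s _)
    rw [act_ι, act_ι, act_ι]
    exact congrArg _ (mul_smul _ _ _)
  map_zero' := sigma_hom_ext M fun f m => by
    rw [act_ι]
    exact (congrArg _ (zero_smul _ _)).trans (map_zero _)
  map_add' r s := sigma_hom_ext M fun f m => by
    show act M V (r + s) _ = act M V r _ + act M V s _
    rw [act_ι, act_ι, act_ι, ← map_add]
    exact congrArg _ ((M.obj (op (Over.mk f))).isModule.add_smul _ _ _)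

noncomputable instance moduleExt (V : Cᵒᵖ) : Module (R.obj V) (((extendPre U).obj M.presheaf).obj V) where
  smul r x := act M V r x
  one_smul x := ConcreteCategory.congr_hom (map_one (actHom M V)) x
  mul_smul r s x := ConcreteCategory.congr_hom (map_mul (actHom M V) r s) x
  smul_zero r := map_zero (act M V r).hom
  smul_add r x y := map_add (act M V r).hom x y
  add_smul r s x := ConcreteCategory.congr_hom (map_add (actHom M V) r s) x
  zero_smul x := ConcreteCategory.congr_hom (map_zero (actHom M V)) x

theorem smul_def (V : Cᵒᵖ) (r : R.obj V) (x : ((extendPre U).obj M.presheaf).obj V) :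
    r • x = act M V r x := rfl

theorem map_smul' ⦃V W : Cᵒᵖ⦄ (g : V ⟶ W) (r : R.obj V) (x : ((extendPre U).obj M.presheaf).obj V) :
    ((extendPre U).obj M.presheaf).map g (r • x) = R.map g r • ((extendPre U).obj M.presheaf).map g x := by
  refine ConcreteCategory.congr_hom (f := act M V r ≫ ((extendPre U).obj M.presheaf).map g)
    (g := ((extendPre U).obj M.presheaf).map g ≫ act M W (R.map g r)) ?_ x
  refine sigma_hom_ext M fun f m => ?_
  let φ : Over.mk (g.unop ≫ f) ⟶ Over.mk f := Over.homMk g.unop rfl
  have hmap : ∀ m', ((extendPre U).obj M.presheaf).map g (Sigma.ι (summand U M.presheaf V) f m') =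
      Sigma.ι (summand U M.presheaf W) (g.unop ≫ f) (M.presheaf.map φ.op m') := fun m' =>
    ConcreteCategory.congr_hom (Sigma.ι_desc (fun f' : V.unop ⟶ U =>
      M.presheaf.map (Over.homMk g.unop rfl : Over.mk (g.unop ≫ f') ⟶ Over.mk f').op ≫
        Sigma.ι (summand U M.presheaf W) (g.unop ≫ f')) f) m'
  show ((extendPre U).obj M.presheaf).map g (act M V r _) = act M W (R.map g r) (((extendPre U).obj M.presheaf).map g _)
  rw [act_ι, hmap, hmap, act_ι]
  exact congrArg _ (M.map_smul φ.op r m)

/-- extension by zero -/
noncomputable def extMod : PresheafOfModules.{u} R :=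
  PresheafOfModules.ofPresheaf ((extendPre U).obj M.presheaf) (map_smul' M)

variable {M} {N : PresheafOfModules.{u} (RU U R)}

variable (U R) in
/-- extension by zero as a functor -/
noncomputable def ext : PresheafOfModules.{u} (RU U R) ⥤ PresheafOfModules.{u} R where
  obj := extMod
  map {M N} α := PresheafOfModules.homMk ((extendPre U).map ((PresheafOfModules.toPresheaf _).map α))
    fun V r x => by
      refine ConcreteCategory.congr_hom (f := act M V r ≫ ((extendPre U).map ((PresheafOfModules.toPresheaf _).map α)).app V)
        (g := ((extendPre U).map ((PresheafOfModules.toPresheaf _).map α)).app V ≫ act N V r) ?_ x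
      refine sigma_hom_ext M fun f m => ?_
      have hmap : ∀ m', ((extendPre U).map ((PresheafOfModules.toPresheaf _).map α)).app V
          (Sigma.ι (summand U M.presheaf V) f m') = Sigma.ι (summand U N.presheaf V) f (α.app (op (Over.mk f)) m') :=
        fun m' => ConcreteCategory.congr_hom (Sigma.ι_map (f := summand U M.presheaf V) (g := summand U N.presheaf V)
          (fun g => ((PresheafOfModules.toPresheaf _).map α).app (op (Over.mk g))) f) m'
      show ((extendPre U).map _).app V (act M V r _) = act N V r (((extendPre U).map _).app V _)
      erw [act_ι, hmap, hmap, act_ι]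
      exact congrArg _ ((α.app (op (Over.mk f))).hom.map_smul _ m)
  map_id M := (PresheafOfModules.toPresheaf R).map_injective ((extendPre U).map_id M.presheaf)
  map_comp α β := (PresheafOfModules.toPresheaf R).map_injective
    ((extendPre U).map_comp ((PresheafOfModules.toPresheaf _).map α) ((PresheafOfModules.toPresheaf _).map β))

variable (U R) in
/-- restriction to `Over U` -/
noncomputable abbrev res : PresheafOfModules.{u} R ⥤ PresheafOfModules.{u} (RU U R) :=
  PresheafOfModules.pushforward₀ (Over.forget U) R

variable (U R) in
/-- extension by zero is left adjoint to restriction -/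
noncomputable def adj : ext U R ⊣ res U R :=
  Adjunction.mkOfHomEquiv
    { homEquiv := fun M N =>
        { toFun := fun a => PresheafOfModules.homMk
            ((extendPreAdj U).homEquiv M.presheaf N.presheaf ((PresheafOfModules.toPresheaf R).map a))
            fun W r m => by
              show a.app (op W.unop.left) (Sigma.ι (summand U M.presheaf (op W.unop.left)) W.unop.hom (r • m : M.obj W)) =
                (show R.obj (op W.unop.left) from r) •
                  a.app (op W.unop.left) (Sigma.ι (summand U M.presheaf (op W.unop.left)) W.unop.hom m)
              refine Eq.trans ?_ ((a.app (op W.unop.left)).hom.map_smul _ _)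
              exact congrArg _ (act_ι M (op W.unop.left) r W.unop.hom m).symm
          invFun := fun b => PresheafOfModules.homMk
            (((extendPreAdj U).homEquiv M.presheaf N.presheaf).symm ((PresheafOfModules.toPresheaf _).map b))
            fun V r x => by
              let φ := (((extendPreAdj U).homEquiv M.presheaf N.presheaf).symm
                ((PresheafOfModules.toPresheaf _).map b)).app V
              refine ConcreteCategory.congr_hom (f := act M V r ≫ φ)
                (g := φ ≫ (forget₂ (ModuleCat _) AddCommGrpCat).map (𝟙 (N.obj V)) ≫ (N.obj V).smul r) ?_ x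
              refine sigma_hom_ext M fun f m => ?_
              have hφ : ∀ m', φ (Sigma.ι (summand U M.presheaf V) f m') = b.app (op (Over.mk f)) m' := fun m' =>
                ConcreteCategory.congr_hom (show Sigma.ι (summand U M.presheaf V) f ≫ φ =
                  ((PresheafOfModules.toPresheaf _).map b).app (op (Over.mk f)) by
                  simp [φ, extendPreAdj]) m'
              show φ (act M V r _) = r • (φ _ : N.obj V)
              rw [act_ι, hφ, hφ]
              exact (b.app (op (Over.mk f))).hom.map_smul _ m
          left_inv := fun a => (PresheafOfModules.toPresheaf R).map_injective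
            (((extendPreAdj U).homEquiv M.presheaf N.presheaf).symm_apply_apply ((PresheafOfModules.toPresheaf R).map a))
          right_inv := fun b => (PresheafOfModules.toPresheaf _).map_injective
            (((extendPreAdj U).homEquiv M.presheaf N.presheaf).apply_symm_apply ((PresheafOfModules.toPresheaf _).map b)) }
      homEquiv_naturality_left_symm := fun {_ _ N} α b => (PresheafOfModules.toPresheaf R).map_injective
        ((extendPreAdj U).homEquiv_naturality_left_symm (Y := N.presheaf) ((PresheafOfModules.toPresheaf _).map α)
          ((PresheafOfModules.toPresheaf _).map b))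
      homEquiv_naturality_right := fun a β => (PresheafOfModules.toPresheaf _).map_injective
        ((extendPreAdj U).homEquiv_naturality_right ((PresheafOfModules.toPresheaf R).map a)
          ((PresheafOfModules.toPresheaf R).map β)) }

end Groth.Agent.ExtZero9
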