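import Groth.Agent.ExtZero9.Pre

/-!
Extension by zero of sheaves of modules is exact and faithful.
-/

universe u

set_option autoImplicit false
set_option synthInstance.maxHeartbeats 20000
set_option maxHeartbeats 400000

open CategoryTheory CategoryTheory.Limits Opposite

namespace Groth.Agent.ExtZero9

open OverExtend.KInjective

variable {C : Type u} [SmallCategory C] {J : GrothendieckTopology C} (U : C) (A : Sheaf J RingCat.{u})

/-- extension by zero of sheaves of modules -/
noncomputable def extS : SheafOfModules.{u} (A.over U) ⥤ SheafOfModules.{u} A :=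
  SheafOfModules.forget (A.over U) ⋙ ext U A.obj ⋙ PresheafOfModules.sheafification (𝟙 A.obj)

/-- restriction, compared on presheaves -/
noncomputable def resIso : SheafOfModules.overFunctor.{u} A U ⋙ SheafOfModules.forget (A.over U) ≅
    (SheafOfModules.forget A ⋙ PresheafOfModules.restrictScalars (𝟙 A.obj)) ⋙ res U A.obj :=
  NatIso.ofComponents (fun M => PresheafOfModules.isoMk (fun _ => Iso.refl _) fun _ _ _ => rfl)
    (fun _ => rfl)

/-- the adjunction -/
noncomputable def extSAdj : extS U A ⊣ SheafOfModules.overFunctor.{u} A U :=
  Adjunction.restrictFullyFaithful ((adj U A.obj).comp (PresheafOfModules.sheafificationAdjunction (𝟙 A.obj)))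
    (SheafOfModules.fullyFaithfulForget.{u} (A.over U)) (Functor.FullyFaithful.id _)
    (Iso.refl _) ((resIso U A).symm)

/-- the underlying abelian sheaf -/
noncomputable def toSheafExtS : extS U A ⋙ SheafOfModules.toSheaf A ≅
    SheafOfModules.toSheaf (A.over U) ⋙ extend J U :=
  NatIso.ofComponents (fun _ => Iso.refl _) (fun f => (Category.comp_id _).trans (Category.id_comp _).symm)

theorem extend_exact : PreservesFiniteLimits (extend J U) := by
  haveI := (extendAdj J U).left_adjoint_additive
  haveI : (extend J U).PreservesMonomorphisms := ⟨fun f _ => by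
    haveI : Mono ((extendPre U).map ((sheafToPresheaf (J.over U) AddCommGrpCat.{u}).map f)) :=
      (extendPre_preservesMonomorphisms U).preserves _
    exact (presheafToSheaf J AddCommGrpCat.{u}).map_mono
      ((extendPre U).map ((sheafToPresheaf (J.over U) AddCommGrpCat.{u}).map f))⟩
  haveI := preservesHomology_of_preservesMonomorphisms (extendAdj J U)
  exact Functor.preservesFiniteLimits_of_preservesHomology _

theorem extend_faithful : (extend J U).Faithful := by
  let adj := extendAdj J U
  haveI : ∀ F : Sheaf (J.over U) AddCommGrpCat.{u}, Mono (adj.unit.app F) := fun F => by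
    let P := (extendPre U).obj F.obj
    let η := CategoryTheory.toSheafify J P
    let u₀ : F.obj ⟶ (Over.forget U).op ⋙ sheafify J P :=
      (extendPreAdj U).unit.app F.obj ≫ Functor.whiskerLeft (Over.forget U).op η
    have hu : (adj.unit.app F).hom = u₀ := by
      show (sheafToPresheaf (J.over U) AddCommGrpCat.{u}).map (adj.unit.app F) = u₀
      simp only [adj, extendAdj]
      rw [Adjunction.map_restrictFullyFaithful_unit_app, Adjunction.comp_unit_app]
      simp [u₀, η, P]
      exact congrArg (_ ≫ ·) (Category.comp_id _)
    haveI : ∀ W, Mono ((adj.unit.app F).hom.app W) := fun ⟨W⟩ => by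
      rw [hu, AddCommGrpCat.mono_iff_injective, injective_iff_map_eq_zero]
      intro x hx
      have hι : ((extendPreAdj U).unit.app F.obj).app (op W) =
          Sigma.ι (summand U F.obj (op W.left)) W.hom := by
        simp [extendPreAdj]
      have hx' : η.app (op W.left) (Sigma.ι (summand U F.obj (op W.left)) W.hom x) =
          η.app (op W.left) 0 := by
        rw [map_zero, ← hι]; exact hx
      have hS := Presheaf.equalizerSieve_mem J η _ _ hx'
      refine (((isSheaf_iff_isSheaf_of_type _ _).1 ((sheafCompose (J.over U) (forget AddCommGrpCat.{u})).obj F).property)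
        ((Sieve.overEquiv W).symm (Presheaf.equalizerSieve (F := P) (X := op W.left)
          (Sigma.ι (summand U F.obj (op W.left)) W.hom x) 0)) (by rwa [J.mem_over_iff, OrderIso.apply_symm_apply])).isSeparatedFor.ext ?_
      intro W' g hg
      rw [Sieve.overEquiv_symm_iff] at hg
      have hg' : P.map g.left.op (Sigma.ι (summand U F.obj (op W.left)) W.hom x) = P.map g.left.op 0 := hg
      rw [map_zero] at hg'
      show F.obj.map g.op x = F.obj.map g.op 0
      rw [map_zero]
      haveI : IsSplitMono (Sigma.ι (summand U F.obj (op W'.left)) (g.left ≫ W.hom)) := inferInstance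
      have hinj := (AddCommGrpCat.mono_iff_injective (Sigma.ι (summand U F.obj (op W'.left)) (g.left ≫ W.hom))).1 inferInstance
      have hmap : P.map g.left.op (Sigma.ι (summand U F.obj (op W.left)) W.hom x) =
          Sigma.ι (summand U F.obj (op W'.left)) (g.left ≫ W.hom)
            (F.obj.map (Over.homMk g.left rfl : Over.mk (g.left ≫ W.hom) ⟶ Over.mk W.hom).op x) :=
        ConcreteCategory.congr_hom (Sigma.ι_desc (fun f' : W.left ⟶ U =>
          F.obj.map (Over.homMk g.left rfl : Over.mk (g.left ≫ f') ⟶ Over.mk f').op ≫
            Sigma.ι (summand U F.obj (op W'.left)) (g.left ≫ f')) W.hom) x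
      have h0 : F.obj.map (Over.homMk g.left rfl : Over.mk (g.left ≫ W.hom) ⟶ Over.mk W.hom).op x = 0 :=
        hinj ((hmap.symm.trans hg').trans (map_zero _).symm)
      have key : ∀ (f' : W'.left ⟶ U) (e : f' = W'.hom) (ψ : Over.mk f' ⟶ Over.mk W.hom) (_ : ψ.left = g.left),
          F.obj.map ψ.op x = 0 → F.obj.map g.op x = 0 := by
        rintro _ rfl ψ hψ h
        obtain rfl : ψ = g := Over.OverMorphism.ext hψ
        exact h
      exact key _ (Over.w g) _ rfl h0
    haveI : Mono (adj.unit.app F).hom := NatTrans.mono_of_mono_app _
    exact (sheafToPresheaf (J.over U) AddCommGrpCat.{u}).mono_of_mono_map ‹_›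
  exact adj.faithful_L_of_mono_unit_app

variable {U A}

theorem exact_of_adjunction {L : SheafOfModules.{u} (A.over U) ⥤ SheafOfModules.{u} A}
    (h : L ⊣ SheafOfModules.overFunctor.{u} A U) :
    PreservesFiniteLimits L ∧ PreservesFiniteColimits L ∧ L.Faithful := by
  haveI := extend_exact (J := J) U
  haveI := extend_faithful (J := J) U
  haveI := h.leftAdjoint_preservesColimits
  let e : L ≅ extS U A := h.leftAdjointUniq (extSAdj U A)
  haveI : PreservesFiniteLimits (extS U A ⋙ SheafOfModules.toSheaf A) :=
    preservesFiniteLimits_of_natIso (toSheafExtS U A).symm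
  haveI : PreservesFiniteLimits (extS U A) :=
    preservesFiniteLimits_of_reflects_of_preserves _ (SheafOfModules.toSheaf A)
  haveI : PreservesFiniteLimits L := preservesFiniteLimits_of_natIso e.symm
  haveI : (extS U A ⋙ SheafOfModules.toSheaf A).Faithful := Functor.Faithful.of_iso (toSheafExtS U A).symm
  haveI : (extS U A).Faithful := Functor.Faithful.of_comp _ (SheafOfModules.toSheaf A)
  exact ⟨inferInstance, inferInstance, Functor.Faithful.of_iso e.symm⟩

end Groth.Agent.ExtZero9
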