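import Groth.Agent.ExtZero9.SliceLike
import Groth.Prelude.Def_EtShriek2

/-!
Composition of étale schemes with an étale morphism is slice-like.
-/

universe u

set_option autoImplicit false

open CategoryTheory CategoryTheory.Limits Opposite AlgebraicGeometry

namespace Groth.Agent.ExtZero9

set_option backward.isDefEq.respectTransparency.types false in
theorem compEtale_final {U X : Scheme.{u}} (j : U ⟶ X) [hj : AlgebraicGeometry.Etale j] (c : X.Etale) :
    ∃ (ι : Type (u + 1)) (g : ι → CostructuredArrow (EtShriek.compEtale j).op (op c)), (Discrete.functor g).Final := by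
  let S : X.Etale := MorphismProperty.Over.mk ⊤ j hj
  have hw : ∀ i : c ⟶ S, i.left ≫ j = c.hom := fun i => MorphismProperty.Over.w i
  let W : (c ⟶ S) → U.Etale := fun i => MorphismProperty.Over.mk ⊤ i.left
    (EtCoh.etaleMP.of_postcomp (W' := EtCoh.etaleMP) i.left j hj (by rw [hw]; exact c.prop))
  let t : ∀ i : c ⟶ S, c ⟶ (EtShriek.compEtale j).obj (W i) := fun i =>
    MorphismProperty.Over.homMk (𝟙 c.left) ((Category.id_comp _).trans (hw i))
  refine ⟨ULift.{u + 1} (c ⟶ S), fun i => CostructuredArrow.mk (Y := op (W i.down)) (t i.down).op, ?_⟩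
  refine final_of_unique _ fun d => ?_
  let φ : c ⟶ (EtShriek.compEtale j).obj d.left.unop := d.hom.unop
  have hφ : φ.left ≫ d.left.unop.hom ≫ j = c.hom := MorphismProperty.Over.w φ
  let i₀ : c ⟶ S := MorphismProperty.Over.homMk (φ.left ≫ d.left.unop.hom) ((Category.assoc _ _ _).trans hφ)
  let m : W i₀ ⟶ d.left.unop := MorphismProperty.Over.homMk φ.left rfl
  refine ⟨⟨i₀⟩, CostructuredArrow.homMk m.op (Quiver.Hom.unop_inj
    (MorphismProperty.Over.Hom.ext (Category.id_comp φ.left))), fun i' a' => ?_⟩
  have h1 : a'.left.unop.left = φ.left :=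
    (Category.id_comp _).symm.trans (congrArg (fun s => s.unop.left) (CostructuredArrow.w a'))
  obtain rfl : i' = ⟨i₀⟩ := by
    refine ULift.ext _ _ (MorphismProperty.Over.Hom.ext ?_)
    show i'.down.left = φ.left ≫ d.left.unop.hom
    rw [← h1]
    exact (MorphismProperty.Over.w a'.left.unop).symm
  refine ⟨rfl, ?_⟩
  rw [eqToHom_refl, Category.comp_id]
  exact CostructuredArrow.hom_ext _ _ (Quiver.Hom.unop_inj (MorphismProperty.Over.Hom.ext h1))

end Groth.Agent.ExtZero9
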