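import Mathlib
import Groth.Agent.OverExtend.KInjective

/-!
Left Kan extension along slice-like functors is exact on abelian presheaves and sheaves.
-/

universe w v u₁ u₂

set_option autoImplicit false
set_option synthInstance.maxHeartbeats 20000
set_option maxHeartbeats 400000

open CategoryTheory CategoryTheory.Limits Opposite

namespace Groth.Agent.ExtZero9

theorem final_of_unique {E : Type u₁} [Category.{v} E] {ι : Type w} (g : ι → E)
    (h : ∀ d : E, ∃ (i : ι) (a : d ⟶ g i), ∀ (i' : ι) (a' : d ⟶ g i'), ∃ e : i' = i, a' ≫ eqToHom (congrArg g e) = a) :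
    (Discrete.functor g).Final := by
  refine ⟨fun d => ?_⟩
  obtain ⟨i, a, hu⟩ := h d
  let P₀ : StructuredArrow d (Discrete.functor g) := StructuredArrow.mk (Y := (⟨i⟩ : Discrete ι)) (show d ⟶ (Discrete.functor g).obj ⟨i⟩ from a)
  haveI : Nonempty (StructuredArrow d (Discrete.functor g)) := ⟨P₀⟩
  refine zigzag_isConnected fun P Q => ?_
  have key : ∀ R : StructuredArrow d (Discrete.functor g), Zag R P₀ := by
    rintro ⟨⟨⟨⟩⟩, ⟨i'⟩, a'⟩
    obtain ⟨rfl, e⟩ := hu i' a'
    exact Or.inl ⟨StructuredArrow.homMk (𝟙 _) (by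
      show a' ≫ (Discrete.functor g).map (𝟙 _) = a
      rw [← e, CategoryTheory.Functor.map_id, eqToHom_refl]
      rfl)⟩
  exact (Relation.ReflTransGen.single (key P)).trans (Relation.ReflTransGen.single (key Q).symm)

variable {C : Type u₁} [Category.{v} C] {D : Type u₂} [Category.{v} D] (G : D ⥤ C)
  [∀ (P : Dᵒᵖ ⥤ AddCommGrpCat.{w}), G.op.HasPointwiseLeftKanExtension P]
  (hG : ∀ c : C, ∃ (ι : Type w) (g : ι → CostructuredArrow G.op (op c)), (Discrete.functor g).Final)

include hG

theorem lan_preservesMono {P Q : Dᵒᵖ ⥤ AddCommGrpCat.{w}} (φ : P ⟶ Q) [Mono φ] :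
    Mono ((G.op.lan).map φ) := by
  haveI : ∀ c, Mono (((G.op.lan).map φ).app c) := by
    rintro ⟨c⟩
    obtain ⟨ι, g, hg⟩ := hG c
    let π := CostructuredArrow.proj G.op (op c)
    have hP := (Functor.Final.isColimitWhiskerEquiv (Discrete.functor g) _).symm
      (G.op.isPointwiseLeftKanExtensionLeftKanExtensionUnit P (op c))
    have hQ := (Functor.Final.isColimitWhiskerEquiv (Discrete.functor g) _).symm
      (G.op.isPointwiseLeftKanExtensionLeftKanExtensionUnit Q (op c))
    let ψ : Discrete.functor g ⋙ π ⋙ P ⟶ Discrete.functor g ⋙ π ⋙ Q :=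
      Functor.whiskerLeft (Discrete.functor g) (Functor.whiskerLeft π φ)
    haveI : ∀ j, Mono (ψ.app j) := fun j => inferInstanceAs (Mono (φ.app _))
    haveI : Mono ψ := NatTrans.mono_of_mono_app _
    refine colim.map_mono' ψ hP hQ _ fun j => ?_
    have h := NatTrans.congr_app ((G.op.lanUnit (H := AddCommGrpCat.{w})).naturality φ) (g j.as).left
    have hn := ((G.op.lan).map φ).naturality (g j.as).hom
    show ((G.op.leftKanExtensionUnit P).app (g j.as).left ≫ (G.op.leftKanExtension P).map (g j.as).hom) ≫ _ = _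
    rw [Category.assoc]
    refine (congrArg (_ ≫ ·) hn).trans ?_
    rw [← Category.assoc]
    refine (congrArg (· ≫ _) h.symm).trans ?_
    exact Category.assoc _ _ _
  exact NatTrans.mono_of_mono_app _

theorem sheafPullback_lex (J : GrothendieckTopology D) (K : GrothendieckTopology C) [G.IsContinuous J K]
    [HasSheafify K AddCommGrpCat.{w}] [HasSheafify J AddCommGrpCat.{w}] :
    PreservesFiniteLimits (G.sheafPullback AddCommGrpCat.{w} J K) := by
  let L := Functor.sheafPullbackConstruction.sheafPullback G AddCommGrpCat.{w} J K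
  let adj := Functor.sheafPullbackConstruction.sheafAdjunctionContinuous G AddCommGrpCat.{w} J K
  haveI : (G.sheafPushforwardContinuous AddCommGrpCat.{w} J K).Additive := ⟨rfl⟩
  haveI := adj.left_adjoint_additive
  haveI : L.PreservesMonomorphisms := ⟨fun f _ => by
    haveI := lan_preservesMono G hG ((sheafToPresheaf J AddCommGrpCat.{w}).map f)
    exact (presheafToSheaf K AddCommGrpCat.{w}).map_mono ((G.op.lan).map ((sheafToPresheaf J AddCommGrpCat.{w}).map f))⟩
  haveI := OverExtend.KInjective.preservesHomology_of_preservesMonomorphisms adj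
  haveI : PreservesFiniteLimits L := Functor.preservesFiniteLimits_of_preservesHomology _
  exact preservesFiniteLimits_of_natIso (Functor.sheafPullbackConstruction.sheafPullbackIso G AddCommGrpCat.{w} J K).symm

end Groth.Agent.ExtZero9
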