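import Groth.Agent.ExtZero9.SliceLike

/-!
`Over.map` and composition of étale schemes with an étale morphism are slice-like.
-/

universe w v u

set_option autoImplicit false

open CategoryTheory CategoryTheory.Limits Opposite

namespace Groth.Agent.ExtZero9

variable {C : Type u} [Category.{v} C]

theorem overMap_final {X Y : C} (f : X ⟶ Y) (c : Over Y) :
    ∃ (ι : Type (max w v)) (g : ι → CostructuredArrow (Over.map f).op (op c)), (Discrete.functor g).Final := by
  refine ⟨ULift.{w} (c ⟶ Over.mk f), fun i => CostructuredArrow.mk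
    (Y := op (Over.mk (i.down.left : c.left ⟶ X)))
    (Over.homMk (𝟙 c.left) (by simpa using Over.w i.down) : c ⟶ (Over.map f).obj (Over.mk (i.down.left : c.left ⟶ X))).op, ?_⟩
  refine final_of_unique _ fun d => ?_
  let φ : c ⟶ (Over.map f).obj d.left.unop := d.hom.unop
  have hφ : φ.left ≫ d.left.unop.hom ≫ f = c.hom := Over.w φ
  refine ⟨⟨Over.homMk (φ.left ≫ d.left.unop.hom) (by simpa using hφ)⟩,
    CostructuredArrow.homMk (Over.homMk φ.left rfl :
      Over.mk (φ.left ≫ d.left.unop.hom) ⟶ d.left.unop).op ?_, fun i' a' => ?_⟩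
  · apply Quiver.Hom.unop_inj
    ext
    exact Category.id_comp φ.left
  · have h1 : a'.left.unop.left = φ.left :=
      (Category.id_comp _).symm.trans
        (congrArg (fun t => t.unop.left) (CostructuredArrow.w a'))
    obtain rfl : i' = ⟨Over.homMk (φ.left ≫ d.left.unop.hom) (by simpa using hφ)⟩ := by
      refine ULift.ext _ _ (Over.OverMorphism.ext ?_)
      show i'.down.left = φ.left ≫ d.left.unop.hom
      rw [← h1]
      exact (Over.w a'.left.unop).symm
    refine ⟨rfl, ?_⟩
    rw [eqToHom_refl, Category.comp_id]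
    refine CostructuredArrow.hom_ext _ _ (Quiver.Hom.unop_inj (Over.OverMorphism.ext ?_))
    exact h1

end Groth.Agent.ExtZero9
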