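import Groth.Agent.ExtZero9.Shf

/-!
Stalks of the extension by zero.
-/

universe u

set_option autoImplicit false

open CategoryTheory CategoryTheory.Limits Opposite

namespace Groth.Agent.ExtZero9

open OverExtend.KInjective

variable {C : Type u} [SmallCategory C] {J : GrothendieckTopology C} (U : C)
  (p : GrothendieckTopology.Point.{u} J) (F : (Over U)ᵒᵖ ⥤ AddCommGrpCat.{u})

/-- the summands of the stalk -/
noncomputable abbrev overFib (x : p.fiber.obj U) : AddCommGrpCat.{u} := (p.over x).presheafFiber.obj F

theorem mem_over {x : p.fiber.obj U} (W : Over U) (y : (p.over x).fiber.obj W) :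
    p.fiber.map W.hom y.1 = x :=
  (FunctorToTypes.mem_fromOverSubfunctor_iff p.fiber x _).1 y.2

/-- an element of the fibre of the point over -/
noncomputable def overEl {x : p.fiber.obj U} (W : Over U) (y : p.fiber.obj W.left)
    (hy : p.fiber.map W.hom y = x) : (p.over x).fiber.obj W :=
  ⟨y, (FunctorToTypes.mem_fromOverSubfunctor_iff p.fiber x _).2 hy⟩

/-- germ followed by the inclusion of the summand -/
noncomputable def germι (x : p.fiber.obj U) (W : Over U) (y : p.fiber.obj W.left)
    (hy : p.fiber.map W.hom y = x) : F.obj (op W) ⟶ ∐ overFib U p F :=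
  (p.over x).toPresheafFiber W (overEl U p W y hy) F ≫ Sigma.ι (overFib U p F) x

theorem germι_w (x x' : p.fiber.obj U) {W W' : Over U} (g : W' ⟶ W) (y : p.fiber.obj W'.left)
    (hy : p.fiber.map W'.hom y = x') (hy' : p.fiber.map W.hom (p.fiber.map g.left y) = x) :
    F.map g.op ≫ germι U p F x' W' y hy = germι U p F x W (p.fiber.map g.left y) hy' := by
  obtain rfl : x = x' := by
    rw [← hy, ← hy', ← Functor.map_comp_apply, Over.w g]
  rw [germι, germι, ← Category.assoc, GrothendieckTopology.Point.toPresheafFiber_w]
  rfl

/-- the stalk of the extension as a coproduct -/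
noncomputable def fibIso : p.presheafFiber.obj ((extendPre U).obj F) ≅ ∐ overFib U p F where
  hom := p.presheafFiberDesc (fun V y => Sigma.desc fun f : V ⟶ U =>
      germι U p F (p.fiber.map f y) (Over.mk f) y rfl)
    (fun {V W} g y => by
      refine Sigma.hom_ext _ _ fun f => ?_
      rw [Sigma.ι_desc]
      refine (Category.assoc _ _ _).symm.trans ?_
      have h := Sigma.ι_desc (fun f' : W ⟶ U =>
        F.map (Over.homMk g rfl : Over.mk (g ≫ f') ⟶ Over.mk f').op ≫
          Sigma.ι (summand U F (op V)) (g ≫ f')) f
      refine (congrArg (· ≫ _) h).trans ?_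
      rw [Category.assoc, Sigma.ι_desc]
      exact germι_w U p F _ _ (Over.homMk g rfl : Over.mk (g ≫ f) ⟶ Over.mk f) y rfl rfl)
  inv := Sigma.desc fun x => (p.over x).presheafFiberDesc
    (fun W y => Sigma.ι (summand U F (op W.left)) W.hom ≫ p.toPresheafFiber W.left y.1 ((extendPre U).obj F))
    (fun {W' W} g y => by
      have h := ((extendPreAdj U).unit.app F).naturality g.op
      have hι : ∀ Z : Over U, ((extendPreAdj U).unit.app F).app (op Z) = Sigma.ι (summand U F (op Z.left)) Z.hom := by
        intro Z; simp [extendPreAdj]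
      rw [hι, hι] at h
      refine (Category.assoc _ _ _).symm.trans ((congrArg (· ≫ _) h).trans ((Category.assoc _ _ _).trans ?_))
      exact congrArg (_ ≫ ·) (p.toPresheafFiber_w g.left y.1 ((extendPre U).obj F)))
  hom_inv_id := by
    refine GrothendieckTopology.Point.presheafFiber_hom_ext _ fun V y => ?_
    simp only [GrothendieckTopology.Point.toPresheafFiber_presheafFiberDesc_assoc, Category.comp_id]
    refine Sigma.hom_ext _ _ fun f => ?_
    rw [Sigma.ι_desc_assoc, germι, Category.assoc, Sigma.ι_desc]
    simp only [GrothendieckTopology.Point.toPresheafFiber_presheafFiberDesc]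
    rfl
  inv_hom_id := by
    refine Sigma.hom_ext _ _ fun x => ?_
    rw [Sigma.ι_desc_assoc, Category.comp_id]
    refine GrothendieckTopology.Point.presheafFiber_hom_ext _ fun W y => ?_
    simp only [GrothendieckTopology.Point.toPresheafFiber_presheafFiberDesc_assoc, Category.assoc,
      GrothendieckTopology.Point.toPresheafFiber_presheafFiberDesc]
    refine (Sigma.ι_desc (fun f : W.left ⟶ U => germι U p F (p.fiber.map f y.1) (Over.mk f) y.1 rfl) W.hom).trans ?_
    have key : ∀ (x' : p.fiber.obj U) (h : p.fiber.map W.hom y.1 = x'),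
        germι U p F x' W y.1 h = germι U p F _ W y.1 rfl := by
      rintro _ rfl; rfl
    exact (key x (mem_over U p W y)).symm

/-- the stalk of the sheafified extension -/
theorem fib_sheafify :
    Nonempty (p.sheafFiber.obj ((presheafToSheaf J AddCommGrpCat.{u}).obj ((extendPre U).obj F)) ≅
      ∐ overFib U p F) := by
  haveI := p.W_isInvertedBy_presheafFiber' _ (J.W_toSheafify ((extendPre U).obj F))
  exact ⟨(asIso (p.presheafFiber.map (toSheafify J ((extendPre U).obj F)))).symm ≪≫ fibIso U p F⟩

end Groth.Agent.ExtZero9
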