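import Mathlib

/-!
Unit of the sheaf pullback along a fully faithful continuous cocontinuous functor.
-/

universe w v v' u u'

set_option autoImplicit false

open CategoryTheory CategoryTheory.Limits

namespace Groth.Agent.ExtZero9

theorem sheafPullback_unit_isIso {C : Type u} [Category.{v} C] {D : Type u} [Category.{v} D]
    (J : GrothendieckTopology C) (K : GrothendieckTopology D) (F : C ⥤ D) [F.Full] [F.Faithful]
    [F.IsContinuous J K] [F.IsCocontinuous J K] (A : Type u') [Category.{v'} A]
    [∀ P : Cᵒᵖ ⥤ A, F.op.HasPointwiseRightKanExtension P]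
    [(F.sheafPushforwardContinuous A J K).IsRightAdjoint] :
    IsIso (F.sheafAdjunctionContinuous A J K).unit := by
  let H := F.sheafPushforwardCocontinuous A J K
  let t : Adjunction.Triple (F.sheafPullback A J K) (F.sheafPushforwardContinuous A J K) H :=
    ⟨F.sheafAdjunctionContinuous _ _ _, F.sheafAdjunctionCocontinuous _ _ _⟩
  haveI : IsIso (F.op.ranAdjunction A).counit := inferInstance
  let ff : (F.op.ran : (Cᵒᵖ ⥤ A) ⥤ _).FullyFaithful :=
    (F.op.ranAdjunction A).fullyFaithfulROfIsIsoCounit
  let hH : H.FullyFaithful := Functor.FullyFaithful.ofCompFaithful (G := sheafToPresheaf K A)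
    (((fullyFaithfulSheafToPresheaf J A).comp ff).ofIso
      (F.sheafPushforwardCocontinuousCompSheafToPresheafIso A J K).symm)
  haveI := (t.fullyFaithfulEquiv.symm hH).full
  haveI := (t.fullyFaithfulEquiv.symm hH).faithful
  infer_instance

end Groth.Agent.ExtZero9
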